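import Groth.Agent.MLMod.Basic
import Mathlib.RingTheory.Flat.EquationalCriterion
import Mathlib.RingTheory.Valuation.ValuationRing

/-!
# Content ideals in flat Mittag-Leffler modules
-/

set_option autoImplicit false

namespace Groth.Agent.Content

universe u

open TensorProduct

/-- In a flat Mittag-Leffler module over a valuation ring every element has a principal content. -/
theorem exists_content {R : Type u} [CommRing R] [IsDomain R] [ValuationRing R] {M : Type u}
    [AddCommGroup M] [Module R M] [Module.Flat R M] (hM : CAlg.IsMittagLeffler R M) (x : M) :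
    ∃ c : R, x ∈ Ideal.span {c} • (⊤ : Submodule R M) ∧
      ∀ J : Ideal R, x ∈ J • (⊤ : Submodule R M) → c ∈ J := by
  obtain ⟨P', _, _, hP', g, h, hfg, hdom⟩ :=
    MLMod.exists_factor_dominates hM (LinearMap.toSpanSingleton R M x)
  obtain ⟨n, z, y, hzy⟩ := Module.Flat.exists_factorization_of_isFinitelyPresented h
  let u : Fin n → R := fun i => z (g 1) i
  obtain ⟨c, hc⟩ : ∃ c : R, Ideal.span (Set.range u) = Ideal.span {c} := by
    have := IsBezout.isPrincipal_of_FG (Ideal.span (Set.range u))
      (Submodule.fg_span (Set.finite_range u))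
    exact ⟨_, (Ideal.span_singleton_generator _).symm⟩
  refine ⟨c, ?_, fun J hJ => ?_⟩
  · have hx : x = y (z (g 1)) := by
      rw [← LinearMap.comp_apply y z, ← hzy, ← LinearMap.comp_apply h g, ← hfg]
      simp
    rw [← hc, hx]
    have : ∀ i, z (g 1) i ∈ Ideal.span (Set.range u) := fun i => Ideal.subset_span ⟨i, rfl⟩
    rw [← Finsupp.sum_single (z (g 1)), Finsupp.sum, map_sum]
    refine Submodule.sum_mem _ fun i _ => ?_
    rw [show Finsupp.single i (z (g 1) i) = z (g 1) i • Finsupp.single i 1 by simp, map_smul]
    exact Submodule.smul_mem_smul (this i) trivial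
  · have key : ∀ m ∈ J • (⊤ : Submodule R M), m ⊗ₜ[R] (Ideal.Quotient.mk J 1) = 0 := by
      intro m hm
      refine Submodule.smul_induction_on hm (fun r hr m' _ => ?_) fun a b ha hb => ?_
      · rw [TensorProduct.smul_tmul, Algebra.smul_def, Ideal.Quotient.algebraMap_eq,
          Ideal.Quotient.eq_zero_iff_mem.mpr hr, zero_mul, TensorProduct.tmul_zero]
      · rw [TensorProduct.add_tmul, ha, hb, add_zero]
    have h1 : g.rTensor (R ⧸ J) ((1 : R) ⊗ₜ[R] Ideal.Quotient.mk J 1) = 0 := by
      refine LinearMap.mem_ker.mp (hdom (R ⧸ J) (LinearMap.mem_ker.mpr ?_))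
      rw [LinearMap.rTensor_tmul, LinearMap.toSpanSingleton_apply, one_smul]
      exact key x hJ
    have hu : ∀ i, u i ∈ J := by
      intro i
      rw [LinearMap.rTensor_tmul] at h1
      have h2 := congrArg (TensorProduct.lid R (R ⧸ J))
        (congrArg (LinearMap.rTensor (R ⧸ J) ((Finsupp.lapply i).comp z)) h1)
      rw [map_zero, map_zero, LinearMap.rTensor_tmul, TensorProduct.lid_tmul, Algebra.smul_def,
        Ideal.Quotient.algebraMap_eq, ← map_mul, mul_one] at h2
      exact Ideal.Quotient.eq_zero_iff_mem.mp h2
    have : Ideal.span {c} ≤ J := hc ▸ Ideal.span_le.mpr (Set.range_subset_iff.mpr hu)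
    exact this (Ideal.mem_span_singleton_self c)

/-- Flatness passes to a flat extension of scalars of a second ring. -/
theorem flat_tensor_of_flat (R T F M : Type u) [CommRing R] [CommRing T] [Algebra R T]
    [AddCommGroup M] [Module R M] [Module T M] [IsScalarTower R T M] [Module.Flat R M]
    [AddCommGroup F] [Module T F] [Module R F] [IsScalarTower R T F] [Module.Flat T F] :
    Module.Flat R (F ⊗[T] M) := by
  refine Module.Flat.iff_lTensor_preserves_injective_linearMap.mpr fun P Q _ _ _ _ f hf => ?_
  have h1 : Function.Injective (AlgebraTensorModule.lTensor T M f) :=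
    Module.Flat.lTensor_preserves_injective_linearMap f hf
  have h2 := Module.Flat.lTensor_preserves_injective_linearMap (M := F)
    (AlgebraTensorModule.lTensor T M f) h1
  intro a b hab
  apply (AlgebraTensorModule.assoc R T T F M P).injective
  apply h2
  have key : ∀ w, LinearMap.lTensor F (AlgebraTensorModule.lTensor T M f)
      (AlgebraTensorModule.assoc R T T F M P w) =
      AlgebraTensorModule.assoc R T T F M Q (LinearMap.lTensor (F ⊗[T] M) f w) := by
    intro w
    induction w using TensorProduct.induction_on with
    | zero => simp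
    | tmul d p =>
      induction d using TensorProduct.induction_on with
      | zero => simp
      | tmul e m => simp
      | add u v hu hv => simp only [TensorProduct.add_tmul, map_add, hu, hv]
    | add u v hu hv => simp only [map_add, hu, hv]
  rw [key, key, hab]

end Groth.Agent.Content
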