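import Mathlib.RingTheory.LocalRing.Module
import Mathlib.RingTheory.TensorProduct.Free
import Mathlib.LinearAlgebra.TensorProduct.Vanishing
import Mathlib.LinearAlgebra.Dual.Lemmas
import Mathlib.LinearAlgebra.TensorProduct.Prod
import Mathlib.RingTheory.Flat.Stability
import Mathlib.RingTheory.SimpleModule.Basic
import Mathlib.RingTheory.Finiteness.Basic

/-!
# Universal injectivity from injectivity modulo all maximal ideals
-/

set_option autoImplicit false
universe u

namespace Groth.Agent.Content

open TensorProduct Function in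
theorem indep {R : Type u} [CommRing R] {N : Type u} [AddCommGroup N] [Module R N]
    [Module.Flat R N] {ι : Type u} [Fintype ι] (v : ι → N)
    (hv : ∀ (m : Ideal R) [m.IsMaximal],
      LinearIndependent (R ⧸ m) fun i => (1 : R ⧸ m) ⊗ₜ[R] v i)
    {Q : Type u} [AddCommGroup Q] [Module R Q] (q : ι → Q) (h : ∑ i, v i ⊗ₜ[R] q i = 0) : q = 0 := by
  classical
  have h' : ∑ i, q i ⊗ₜ[R] v i = 0 := by
    simpa using congrArg (TensorProduct.comm R N Q) h
  obtain ⟨l, a, y, hy, ha⟩ := vanishesTrivially_of_sum_tmul_eq_zero_of_rTensor_injective R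
    (Module.Flat.rTensor_preserves_injective_linearMap _ (Submodule.injective_subtype _)) h'
  let B : (Fin l → R) →ₗ[R] (ι → R) := LinearMap.pi fun i => ∑ j, a i j • LinearMap.proj j
  let Φ : (ι → R) →ₗ[R] Q := ∑ i, (LinearMap.proj i).smulRight (q i)
  have hB : ∀ c i, B c i = ∑ j, a i j * c j := fun c i => by simp [B, LinearMap.sum_apply]
  have hΦB : ∀ c, Φ (B c) = 0 := fun c => by
    simp only [Φ, LinearMap.sum_apply, LinearMap.smulRight_apply, LinearMap.proj_apply, hB, Finset.sum_smul]
    rw [Finset.sum_comm]
    refine Finset.sum_eq_zero fun j _ => ?_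
    simp_rw [mul_comm (a _ j) (c j), mul_smul, ← Finset.smul_sum, ha j, smul_zero]
  have hsurj : Surjective B := by
    rw [← LinearMap.range_eq_top]
    by_contra hne
    obtain ⟨P, hP, hle⟩ := (eq_top_or_exists_le_coatom (LinearMap.range B)).resolve_left hne
    haveI : IsSimpleModule R ((ι → R) ⧸ P) := isSimpleModule_iff_isCoatom.mpr hP
    obtain ⟨m, hm, ⟨e⟩⟩ := isSimpleModule_iff_quot_maximal.mp ‹IsSimpleModule R ((ι → R) ⧸ P)›
    let φ : (ι → R) →ₗ[R] R ⧸ m := e.toLinearMap ∘ₗ P.mkQ
    have hφ : ∀ c, φ (B c) = 0 := fun c => by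
      simp [φ, (Submodule.Quotient.mk_eq_zero P).mpr (hle ⟨c, rfl⟩)]
    have hcol : ∀ j, ∑ i, a i j • φ (Pi.single i 1) = 0 := fun j => by
      have hj := hφ (Pi.single j 1)
      rw [pi_eq_sum_univ' (B (Pi.single j 1)), map_sum] at hj
      simpa [hB, Pi.single_apply] using hj
    haveI := hm
    have hzero := Fintype.linearIndependent_iff.mp (hv m) (fun i => φ (Pi.single i 1)) ?_
    · refine hP.1 (eq_top_iff.mpr fun w _ => ?_)
      have h0 : φ w = 0 := by
        rw [pi_eq_sum_univ' w, map_sum]
        refine Finset.sum_eq_zero fun i _ => ?_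
        rw [map_smul, hzero, smul_zero]
      exact (Submodule.Quotient.mk_eq_zero P).mp (e.injective (by simpa [φ] using h0))
    · simp_rw [hy, tmul_sum, tmul_smul, Finset.smul_sum]
      rw [Finset.sum_comm]
      refine Finset.sum_eq_zero fun j _ => ?_
      have : ∀ i, φ (Pi.single i 1) • a i j • ((1 : R ⧸ m) ⊗ₜ[R] y j)
          = (a i j • φ (Pi.single i 1)) • ((1 : R ⧸ m) ⊗ₜ[R] y j) := fun i => by
        rw [smul_comm, smul_assoc]
      rw [Finset.sum_congr rfl fun i _ => this i, ← Finset.sum_smul, hcol j, zero_smul]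
  funext i
  obtain ⟨c, hc⟩ := hsurj (Pi.single i 1)
  have := hΦB c
  rw [hc] at this
  simpa [Φ, LinearMap.sum_apply, Pi.single_apply, ite_smul] using this

open TensorProduct Function in
theorem core {R : Type u} [CommRing R] {N : Type u} [AddCommGroup N] [Module R N]
    [Module.Flat R N] {ι : Type u} (u : (ι →₀ R) →ₗ[R] N)
    (h : ∀ (m : Ideal R) [m.IsMaximal], Injective (LinearMap.lTensor (R ⧸ m) u))
    (Q : Type u) [AddCommGroup Q] [Module R Q] : Injective (LinearMap.rTensor Q u) := by
  classical
  rw [injective_iff_map_eq_zero]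
  intro x hx
  obtain ⟨w, rfl⟩ := (TensorProduct.finsuppScalarLeft R Q ι).symm.surjective x
  rw [← Finsupp.sum_single w, Finsupp.sum, map_sum, map_sum] at hx
  simp only [TensorProduct.finsuppScalarLeft_symm_apply_single, LinearMap.rTensor_tmul] at hx
  rw [← Finset.sum_coe_sort] at hx
  have hv : ∀ (m : Ideal R) [m.IsMaximal], LinearIndependent (R ⧸ m)
      fun i : w.support => (1 : R ⧸ m) ⊗ₜ[R] u (Finsupp.single i.1 1) := by
    intro m _
    have h1 := ((Algebra.TensorProduct.basis (R ⧸ m)
      (Finsupp.basisSingleOne (R := R) (ι := ι))).linearIndependent.map'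
      (u.baseChange (R ⧸ m)) (LinearMap.ker_eq_bot.mpr (h m))).comp
      (Subtype.val : w.support → ι) Subtype.val_injective
    simpa [Function.comp_def] using h1
  have hq := indep _ hv (fun i : w.support => w i.1) hx
  suffices w = 0 by rw [this, map_zero]
  ext i
  by_cases hi : i ∈ w.support
  · exact congrFun hq ⟨i, hi⟩
  · simpa using hi

open TensorProduct in
/-- A linear map from a projective module to a flat module which is injective modulo every maximal
ideal is universally injective. -/
theorem univInj_of_projective {R M N : Type u} [CommRing R] [AddCommGroup M] [Module R M] [Module.Projective R M]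
    [AddCommGroup N] [Module R N] [Module.Flat R N] (u : M →ₗ[R] N)
    (h : ∀ (m : Ideal R) [m.IsMaximal], Function.Injective (LinearMap.lTensor (R ⧸ m) u)) :
    ∀ (Q : Type u) [AddCommGroup Q] [Module R Q], Function.Injective (LinearMap.rTensor Q u) := by
  intro Q _ _
  obtain ⟨s, hs⟩ := Module.Projective.out (R := R) (P := M)
  let p : (M →₀ R) →ₗ[R] M := Finsupp.linearCombination R id
  have hps : p ∘ₗ s = LinearMap.id := LinearMap.ext hs
  let u' : (M →₀ R) →ₗ[R] N × (M →₀ R) := (u ∘ₗ p).prod (LinearMap.id - s ∘ₗ p)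
  have h' : ∀ (m : Ideal R) [m.IsMaximal], Function.Injective (LinearMap.lTensor (R ⧸ m) u') := by
    intro m _
    rw [injective_iff_map_eq_zero]
    intro z hz
    have h1 := congrArg (LinearMap.lTensor (R ⧸ m) (LinearMap.fst R N (M →₀ R))) hz
    have h2 := congrArg (LinearMap.lTensor (R ⧸ m) (LinearMap.snd R N (M →₀ R))) hz
    rw [map_zero, ← LinearMap.comp_apply, ← LinearMap.lTensor_comp] at h1 h2
    simp only [u', LinearMap.fst_prod, LinearMap.snd_prod, LinearMap.lTensor_comp, LinearMap.lTensor_sub,
      LinearMap.lTensor_id, LinearMap.sub_apply, LinearMap.id_coe, id_eq, LinearMap.comp_apply] at h1 h2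
    rw [h m (h1.trans (map_zero _).symm), map_zero, sub_zero] at h2
    exact h2
  have hus : u' ∘ₗ s = LinearMap.inl R N (M →₀ R) ∘ₗ u := by
    refine LinearMap.ext fun m => ?_
    have : p (s m) = m := hs m
    simp [u', this]
  have : Module.Flat R (N × (M →₀ R)) := by
    rw [Module.Flat.iff_rTensor_injective']
    intro J
    rw [injective_iff_map_eq_zero]
    intro z hz
    apply (TensorProduct.prodRight R R J N (M →₀ R)).injective
    rw [map_zero]
    have hc : ∀ z, TensorProduct.prodRight R R R N (M →₀ R) ((Submodule.subtype J).rTensor _ z) =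
        ((Submodule.subtype J).rTensor N (TensorProduct.prodRight R R J N (M →₀ R) z).1,
         (Submodule.subtype J).rTensor (M →₀ R) (TensorProduct.prodRight R R J N (M →₀ R) z).2) := by
      intro z
      induction z with
      | zero => simp [Prod.mk_zero_zero]
      | tmul j w => simp
      | add a b ha hb => simp only [map_add, ha, hb, Prod.mk_add_mk, Prod.fst_add, Prod.snd_add]
    have h := hc z
    rw [hz, map_zero, eq_comm, Prod.mk_eq_zero] at h
    refine Prod.ext ?_ ?_
    · exact Module.Flat.rTensor_preserves_injective_linearMap _ (Submodule.injective_subtype J)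
        (h.1.trans (map_zero _).symm)
    · exact Module.Flat.rTensor_preserves_injective_linearMap _ (Submodule.injective_subtype J)
        (h.2.trans (map_zero _).symm)
  rw [injective_iff_map_eq_zero]
  intro x hx
  have h3 : LinearMap.rTensor Q s x = 0 := by
    apply core u' h' Q
    rw [map_zero, ← LinearMap.comp_apply, ← LinearMap.rTensor_comp, hus, LinearMap.rTensor_comp,
      LinearMap.comp_apply, hx, map_zero]
  have h4 := congrArg (LinearMap.rTensor Q p) h3
  rwa [map_zero, ← LinearMap.comp_apply, ← LinearMap.rTensor_comp, hps, LinearMap.rTensor_id,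
    LinearMap.id_coe, id_eq] at h4

end Groth.Agent.Content
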